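/-
A class of 3-transpositions of width one with simple derived group: the symmetric group of degree
three.
-/
import Cfsg.Agent.H71.Fischer.Defs
import Cfsg.Agent.H99.WidthOne
import Cfsg.Agent.H99.TTFischer
import Mathlib.GroupTheory.SpecificGroups.Cyclic

set_option autoImplicit false

namespace H45.Narrow

open Cfsg H99 H71.Fischer
open scoped commutatorElement

universe u

section facts

variable {G : Type*} [Group G] [Finite G] {D : Set G}

/-- Width one: any two members have product of order dividing three. -/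
theorem cube (hD : IsThreeTranspositionClass D)
    (hw : ∀ a ∈ D, ∀ b ∈ D, Commute a b → a = b) :
    ∀ a ∈ D, ∀ b ∈ D, (a * b) ^ 3 = 1 := by
  intro a ha b hb
  by_cases hab : Commute a b
  · rw [hw a ha b hb hab, tt_mul_self hD.1 hb, one_pow]
  · exact tt_cube_of_not_commute hD.1 ha hb hab

/-- The derived group has order three. -/
theorem card_commutator (hD : IsThreeTranspositionClass D) (hD2 : ∃ a ∈ D, ∃ b ∈ D, a ≠ b)
    (hs : IsSimpleGroup (commutator G)) (hw : ∀ a ∈ D, ∀ b ∈ D, Commute a b → a = b) :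
    Nat.card (commutator G) = 3 := by
  haveI : Fact (Nat.Prime 3) := ⟨Nat.prime_three⟩
  obtain ⟨d, hd, -⟩ := hD2
  set O := Cfsg.pCore 3 G with hO
  haveI hOn : O.Normal := by rw [hO]; infer_instance
  let π := QuotientGroup.mk' O
  have hle : (⊤ : Subgroup G) ≤ (Subgroup.zpowers (π d)).comap π := by
    rw [← hD.2.2, Subgroup.closure_le]
    intro b hb
    rw [SetLike.mem_coe, Subgroup.mem_comap]
    have h1 : π (d * b) = 1 := (QuotientGroup.eq_one_iff _).2
      (width_one_mem_pCore (fun x hx => tt_mul_self hD.1 hx) (fun g x hx => class_conj_mem hD g hx)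
        (cube hD hw) hd hb)
    rw [map_mul] at h1
    rw [← inv_eq_of_mul_eq_one_right h1]
    exact inv_mem (Subgroup.mem_zpowers _)
  have hcom : commutator G ≤ O := by
    rw [commutator_def, Subgroup.commutator_le]
    intro a _ b _
    obtain ⟨i, hi⟩ := hle (Subgroup.mem_top a)
    obtain ⟨j, hj⟩ := hle (Subgroup.mem_top b)
    refine (QuotientGroup.eq_one_iff _).1 ?_
    show π ⁅a, b⁆ = 1
    rw [map_commutatorElement, commutatorElement_eq_one_iff_mul_comm, ← hi, ← hj]
    exact (Commute.zpow_zpow_self _ i j).eq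
  have hp : IsPGroup 3 (commutator G) := IsPGroup.to_le (H1.isPGroup_pCore 3 G) hcom
  haveI := hs
  haveI : Nontrivial (commutator G) := IsSimpleGroup.toNontrivial
  rcases (inferInstance : (Subgroup.center (commutator G)).Normal).eq_bot_or_eq_top with h | h
  · exact absurd h hp.bot_lt_center.ne'
  letI : CommGroup (commutator G) :=
    { (inferInstance : Group (commutator G)) with
      mul_comm := fun a b => (Subgroup.mem_center_iff.1 (h ▸ Subgroup.mem_top a) b).symm }
  have hpr : (Nat.card (commutator G)).Prime := IsSimpleGroup.prime_card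
  obtain ⟨n, hn⟩ := IsPGroup.iff_card.1 hp
  rw [hn] at hpr ⊢
  rw [hpr.eq_one_of_pow]
  rfl

/-- Exactly three members. -/
theorem ncard_eq_three (hD : IsThreeTranspositionClass D) (hD2 : ∃ a ∈ D, ∃ b ∈ D, a ≠ b)
    (hs : IsSimpleGroup (commutator G)) (hw : ∀ a ∈ D, ∀ b ∈ D, Commute a b → a = b) :
    D.ncard = 3 := by
  have hC := card_commutator hD hD2 hs hw
  obtain ⟨a, ha, b, hb, hab⟩ := hD2
  have hle : D.ncard ≤ 3 := by
    rw [← hC, ← Nat.card_coe_set_eq (s := D)]
    refine Nat.card_le_card_of_injective (fun x : D => (⟨a * (x : G), ?_⟩ : commutator G))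
      (fun x y hxy => Subtype.ext (mul_left_cancel (congrArg Subtype.val hxy)))
    obtain ⟨g, hg⟩ := class_isConj hD ha x.2
    rw [← hg, commutator_def,
      show a * (g * a * g⁻¹) = ⁅a, g⁆ by rw [commutatorElement_def, tt_inv hD.1 ha]; group]
    exact Subgroup.commutator_mem_commutator (Subgroup.mem_top _) (Subgroup.mem_top _)
  have hc : ¬ Commute a b := fun h => hab (hw a ha b hb h)
  have hcD : a * b * a ∈ D := by simpa [tt_inv hD.1 ha] using class_conj_mem hD a hb
  have hca : a * b * a ≠ a := fun h => hc (by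
    have h' := mul_right_cancel (h.trans (one_mul a).symm)
    have hba : b = a := by rw [← inv_eq_of_mul_eq_one_right h', tt_inv hD.1 ha]
    rw [hba])
  have hcb : a * b * a ≠ b := fun h => hc (by
    have h' := congrArg (· * a) h
    simp only [mul_assoc, tt_mul_self hD.1 ha, mul_one] at h'
    exact h')
  refine le_antisymm hle ?_
  have hsub : ({a, b, a * b * a} : Set G) ⊆ D := by
    rintro x (rfl | rfl | rfl) <;> assumption
  refine le_trans (le_of_eq ?_) (Set.ncard_le_ncard hsub (Set.toFinite _))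
  rw [Set.ncard_insert_of_notMem (by simp [hab, hca.symm]) (Set.toFinite _),
    Set.ncard_pair hcb.symm]

end facts

theorem perm_three_fix : ∀ σ : Equiv.Perm (Fin 3), ∀ τ : Equiv.Perm (Fin 3), ∀ p : Fin 3,
    σ p = p → τ p = p → σ ≠ 1 → τ ≠ 1 → σ = τ := by
  decide +kernel

theorem perm_three_swap : ∀ σ : Equiv.Perm (Fin 3), ∀ p : Fin 3, σ p = p → σ ≠ 1 →
    ∃ x y : Fin 3, x ≠ y ∧ σ = Equiv.swap x y := by
  decide +kernel

theorem swap_three_fix : ∀ x y : Fin 3, x ≠ y → Equiv.swap x y ≠ 1 ∧
    ∃ p, Equiv.swap x y p = p := by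
  decide +kernel

/-- The width-one case. -/
theorem narrowStmt : NarrowStmt.{u} := by
  intro G _ _ D hD hZ hs hw
  classical
  have hw' : ∀ a ∈ D, ∀ b ∈ D, Commute a b → a = b := fun a ha b hb h => by
    by_contra hne
    exact hw ⟨a, ha, b, hb, hne, h⟩
  obtain ⟨d, hd, -⟩ := hD.2.1
  have hD2 : ∃ a ∈ D, ∃ b ∈ D, a ≠ b := by
    by_contra hno
    push Not at hno
    have hdc : d ∈ Subgroup.center G := Subgroup.mem_center_iff.2 fun g => by
      have h : g * d * g⁻¹ = d := (hno _ hd _ (class_conj_mem hD g hd)).symm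
      exact mul_inv_eq_iff_eq_mul.1 h
    rw [hZ, Subgroup.mem_bot] at hdc
    have := hD.1.1 d hd
    rw [hdc, orderOf_one] at this
    omega
  obtain ⟨ε⟩ : Nonempty (↥D ≃ Fin 3) := ⟨Nat.equivFinOfCardPos (by
      rw [Nat.card_coe_set_eq, ncard_eq_three hD hD2 hs hw']; norm_num) |>.trans
    (finCongr (by rw [Nat.card_coe_set_eq, ncard_eq_three hD hD2 hs hw']))⟩
  let cj : G →* Equiv.Perm ↥D :=
    { toFun := fun g =>
        { toFun := fun x => ⟨g * (x : G) * g⁻¹, class_conj_mem hD g x.2⟩
          invFun := fun x => ⟨g⁻¹ * (x : G) * g, by simpa using class_conj_mem hD g⁻¹ x.2⟩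
          left_inv := fun x => Subtype.ext (by group)
          right_inv := fun x => Subtype.ext (by group) }
      map_one' := Equiv.ext fun x => Subtype.ext (by simp)
      map_mul' := fun g h => Equiv.ext fun x => Subtype.ext (by
        show g * h * (x : G) * (g * h)⁻¹ = g * (h * (x : G) * h⁻¹) * g⁻¹
        group) }
  let f : G →* Equiv.Perm (Fin 3) := ε.permCongrHom.toMonoidHom.comp cj
  have hf : ∀ g p, f g p = ε (cj g (ε.symm p)) := fun g p => rfl
  have hfix : ∀ g (x : ↥D), f g (ε x) = ε x ↔ Commute g (x : G) := fun g x => by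
    rw [hf, ε.symm_apply_apply, ε.injective.eq_iff, Subtype.ext_iff]
    exact mul_inv_eq_iff_eq_mul
  have hinj : Function.Injective f := (injective_iff_map_eq_one f).2 fun g hg => by
    have hc : g ∈ Subgroup.center G := by
      refine Subgroup.mem_center_iff.2 fun y => ?_
      have hle : (⊤ : Subgroup G) ≤ Subgroup.centralizer {g} := by
        rw [← hD.2.2, Subgroup.closure_le]
        intro x hx
        refine Subgroup.mem_centralizer_singleton_iff.2 ?_
        exact ((hfix g ⟨x, hx⟩).1 (by rw [hg]; rfl)).eq.symm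
      exact Subgroup.mem_centralizer_singleton_iff.1 (hle (Subgroup.mem_top y))
    rwa [hZ, Subgroup.mem_bot] at hc
  have hmem : ∀ x (hx : x ∈ D), f x (ε ⟨x, hx⟩) = ε ⟨x, hx⟩ ∧ f x ≠ 1 := fun x hx =>
    ⟨(hfix x ⟨x, hx⟩).2 (Commute.refl x), fun h => by
      have h1 : x = 1 := hinj (h.trans (map_one f).symm)
      have := hD.1.1 x hx
      rw [h1, orderOf_one] at this
      omega⟩
  have himg : f '' D = {σ : Equiv.Perm (Fin 3) | σ.IsSwap} := by
    ext σ
    constructor
    · rintro ⟨x, hx, rfl⟩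
      exact perm_three_swap _ _ (hmem x hx).1 (hmem x hx).2
    · rintro ⟨a, b, hab, rfl⟩
      obtain ⟨h1, p, hp⟩ := swap_three_fix a b hab
      obtain ⟨hfp, hne⟩ := hmem _ (ε.symm p).2
      rw [Subtype.coe_eta, ε.apply_symm_apply] at hfp
      exact ⟨_, (ε.symm p).2, perm_three_fix _ _ p hfp hp hne h1⟩
  have hsurj : Function.Surjective f := by
    rw [← MonoidHom.range_eq_top, eq_top_iff, ← Equiv.Perm.closure_isSwap, ← himg,
      Subgroup.closure_le]
    rintro _ ⟨x, -, rfl⟩
    exact ⟨x, rfl⟩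
  exact ⟨MulEquiv.ofBijective f ⟨hinj, hsurj⟩, himg⟩

end H45.Narrow
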